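import Mathlib
import Groth.Prelude.Def_RelSpec2
import Groth.Agent.S8302
import Groth.Agent.ModSiteLib.Colimits

/-!
# The counit from a pulled back module to a module over the direct image algebra
-/

set_option autoImplicit false
set_option linter.style.haveILetI false

universe u

open CategoryTheory CategoryTheory.Limits AlgebraicGeometry TopologicalSpace Opposite

noncomputable section

namespace AModExistLib

variable {X S : Scheme.{u}} (f : X ⟶ S) [IsAffineHom f]

/-- The underlying module. -/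
abbrev under (M : AMod (RelSpec.QCAlg.directImage f)) : S.Modules :=
  (AMod.toOS (RelSpec.QCAlg.directImage f)).obj M

variable (M : AMod (RelSpec.QCAlg.directImage f))

/-- The value of the counit on an affine open. -/
theorem exists_counit_app [Coh.IsQCoh (under f M)] {U : S.Opens} (hU : IsAffineOpen U) :
    ∃ θ : Γ(KFlatLib.pb f (under f M), f ⁻¹ᵁ U) →+ M.val.obj (op U),
      (∀ (c : Γ(X, f ⁻¹ᵁ U)) z, θ (c • z) = (show (AMod.ringSheaf (RelSpec.QCAlg.directImage f)).obj.obj (op U) from c) • θ z) ∧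
      ∀ m : Γ(under f M, U), θ (KFlatLib.puSec f m) = m := by
  let := (f.appLE U (f ⁻¹ᵁ U) le_rfl).hom.toAlgebra
  let := Module.compHom Γ(KFlatLib.pb f (under f M), f ⁻¹ᵁ U) (f.appLE U (f ⁻¹ᵁ U) le_rfl).hom
  haveI : IsScalarTower Γ(S, U) Γ(X, f ⁻¹ᵁ U) Γ(KFlatLib.pb f (under f M), f ⁻¹ᵁ U) :=
    IsScalarTower.of_algebraMap_smul fun _ _ => rfl
  letI mB : Module Γ(X, f ⁻¹ᵁ U) (M.val.obj (op U)) :=
    inferInstanceAs (Module ((AMod.ringSheaf (RelSpec.QCAlg.directImage f)).obj.obj (op U)) (M.val.obj (op U)))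
  letI mA : Module Γ(S, U) (M.val.obj (op U)) :=
    Module.compHom (M.val.obj (op U)) (f.appLE U (f ⁻¹ᵁ U) le_rfl).hom
  haveI : IsScalarTower Γ(S, U) Γ(X, f ⁻¹ᵁ U) (M.val.obj (op U)) :=
    IsScalarTower.of_algebraMap_smul fun _ _ => rfl
  let ψ : Γ(under f M, U) →ₗ[Γ(S, U)] Γ(KFlatLib.pb f (under f M), f ⁻¹ᵁ U) :=
    { toFun := KFlatLib.puSecLE f (under f M) (le_refl (f ⁻¹ᵁ U))
      map_add' := map_add _
      map_smul' := fun r m => KFlatLib.puSecLE_smul f (under f M) le_rfl r m }
  have hbc := KFlatLib.isBaseChange_puSec f (under f M) hU (hU.preimage f) (le_refl (f ⁻¹ᵁ U)) (fun _ => rfl) ψ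
    fun _ => rfl
  let g : Γ(under f M, U) →ₗ[Γ(S, U)] M.val.obj (op U) :=
    { toFun := fun m => m
      map_add' := fun _ _ => rfl
      map_smul' := fun r m => by
        show (r • m : Γ(under f M, U)) = (show M.val.obj (op U) from
          (f.appLE U (f ⁻¹ᵁ U) le_rfl).hom r • (show M.val.obj (op U) from m))
        rw [← Scheme.Hom.app_eq_appLE]
        rfl }
  refine ⟨(hbc.lift g).toAddMonoidHom, fun c z => (hbc.lift g).map_smul c z, fun m => ?_⟩
  have e : ψ m = KFlatLib.puSec f m := by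
    change KFlatLib.puSecLE f (under f M) (le_refl _) m = _
    rw [KFlatLib.puSecLE_apply, show homOfLE (le_refl (f ⁻¹ᵁ U)) = 𝟙 _ from rfl, op_id,
      CategoryTheory.Functor.map_id]
    rfl
  rw [← e]
  exact hbc.lift_eq g m

/-- The counit. -/
theorem exists_counit [Coh.IsQCoh (under f M)] :
    ∃ θ : (AMod.dirImg f).obj (KFlatLib.pb f (under f M)) ⟶ M,
      ∀ (U : S.Opens), IsAffineOpen U → ∀ m : Γ(under f M, U), θ.val.app (op U) (KFlatLib.puSec f m) = m := by
  choose θ hθs hθm using fun U : S.affineOpens => exists_counit_app f M U.2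
  have hB : Opens.IsBasis (Set.range fun U : S.affineOpens => U.1) := by
    rw [Subtype.range_coe_subtype]
    exact S.isBasis_affineOpens
  have hnat : ∀ (U V : S.affineOpens) (h : V.1 ≤ U.1) (z : Γ(KFlatLib.pb f (under f M), f ⁻¹ᵁ U.1)),
      θ V ((KFlatLib.pb f (under f M)).presheaf.map (homOfLE (f.preimage_mono h)).op z) =
        (show M.val.obj (op V.1) from M.val.map (homOfLE h).op (θ U z)) := by
    intro U V h z
    refine Groth.Agent.S8302.span_puSec f (under f M) U.2 (fun z =>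
      θ V ((KFlatLib.pb f (under f M)).presheaf.map (homOfLE (f.preimage_mono h)).op z) =
        (show M.val.obj (op V.1) from M.val.map (homOfLE h).op (θ U z))) ?_ ?_ ?_ ?_ z
    · simp only [map_zero]
      rfl
    · intro a b ha hb
      simp only [map_add, ha, hb]
      rfl
    · intro c a ha
      rw [Scheme.Modules.map_smul, hθs, ha, hθs]
      exact ((M.val.map (homOfLE h).op).hom.map_smul _ (θ U a)).symm
    · intro m
      rw [hθm]
      refine Eq.trans ?_ (hθm V ((under f M).presheaf.map (homOfLE h).op m))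
      exact congrArg (θ V) (QCohLib.app_map ((Scheme.Modules.pullbackPushforwardAdjunction f).unit.app (under f M)) (homOfLE h) m).symm
  let P := (AMod.dirImg f).obj (KFlatLib.pb f (under f M))
  let α : (inducedFunctor fun U : S.affineOpens => U.1).op ⋙ P.val.presheaf ⟶
      (inducedFunctor fun U : S.affineOpens => U.1).op ⋙ M.val.presheaf :=
    { app := fun U => AddCommGrpCat.ofHom (θ U.unop)
      naturality := fun U V g => by
        ext z
        exact hnat U.unop V.unop (leOfHom g.unop.hom) z }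
  let φ : P.val.presheaf ⟶ M.val.presheaf :=
    TopCat.Sheaf.restrictHomEquivHom P.val.presheaf (⟨M.val.presheaf, M.isSheaf⟩ : TopCat.Sheaf Ab S.carrier) hB α
  have hφ : ∀ (U : S.affineOpens) (z : Γ(KFlatLib.pb f (under f M), f ⁻¹ᵁ U.1)), φ.app (op U.1) z = θ U z :=
    fun U z => congr($(TopCat.Sheaf.extend_hom_app P.val.presheaf
      (⟨M.val.presheaf, M.isSheaf⟩ : TopCat.Sheaf Ab S.carrier) hB α U) z)
  refine ⟨⟨PresheafOfModules.homMk φ fun W r z => ?_⟩, fun U hU m => (hφ ⟨U, hU⟩ _).trans (hθm ⟨U, hU⟩ m)⟩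
  refine TopCat.Sheaf.eq_of_locally_eq' (⟨M.val.presheaf, M.isSheaf⟩ : TopCat.Sheaf Ab S.carrier)
    (fun U : {U : S.affineOpens // U.1 ≤ W.unop} => U.1.1) W.unop (fun U => homOfLE U.2) ?_ _ _ fun U => ?_
  · intro p hp
    obtain ⟨U, hU, hpU, hle⟩ := exists_isAffineOpen_mem_and_subset (x := p) (U := W.unop) hp
    exact Opens.mem_iSup.2 ⟨⟨⟨U, hU⟩, fun y hy => hle hy⟩, hpU⟩
  · have n : ∀ y, M.val.presheaf.map (homOfLE U.2).op (φ.app W y) =
        θ U.1 (P.val.presheaf.map (homOfLE U.2).op y) := fun y =>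
      (congr($(φ.naturality (homOfLE U.2).op) y)).symm.trans (hφ U.1 _)
    refine (n _).trans ?_
    rw [show P.val.presheaf.map (homOfLE U.2).op (r • z) =
      (show Γ(X, f ⁻¹ᵁ U.1.1) from X.presheaf.map (homOfLE (f.preimage_mono U.2)).op r) •
        (show Γ(KFlatLib.pb f (under f M), f ⁻¹ᵁ U.1.1) from P.val.presheaf.map (homOfLE U.2).op z) from
      (P.val.map (homOfLE U.2).op).hom.map_smul r z, hθs, ← n]
    exact ((M.val.map (homOfLE U.2).op).hom.map_smul r (φ.app W z)).symm

end AModExistLib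

end
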