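import Mathlib
import Groth.Agent.AModExistLib.Counit
import Groth.Agent.MiscFlat6.DirImgEpi
import Groth.Agent.QCohLib.QCoh

/-!
# Modules over the direct image algebra are direct images
-/

set_option autoImplicit false
set_option linter.style.haveILetI false

universe u

open CategoryTheory CategoryTheory.Limits AlgebraicGeometry TopologicalSpace Opposite

noncomputable section

namespace AModExistLib

variable {X S : Scheme.{u}} (f : X ⟶ S) [IsAffineHom f]

/-- Restriction to the structure sheaf preserves limits and colimits and reflects isomorphisms. -/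
theorem toOS_preserves : PreservesLimitsOfSize.{u, u} (AMod.toOS (RelSpec.QCAlg.directImage f)) ∧
    PreservesColimitsOfSize.{u, u} (AMod.toOS (RelSpec.QCAlg.directImage f)) ∧
    (AMod.toOS (RelSpec.QCAlg.directImage f)).ReflectsIsomorphisms :=
  ModSiteLib.restrictScalars_preserves _

instance faithful_toOS : (AMod.toOS (RelSpec.QCAlg.directImage f)).Faithful :=
  ⟨fun {M M'} a b h => SheafOfModules.hom_ext (PresheafOfModules.hom_ext fun W =>
    ModuleCat.hom_ext (LinearMap.ext fun m => congrArg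
      (fun t : (AMod.toOS (RelSpec.QCAlg.directImage f)).obj M ⟶ _ => t.val.app W m) h))⟩

theorem preservesKernels : PreservesLimitsOfShape WalkingParallelPair (AMod.dirImg f) := by
  obtain ⟨h1, -, h3⟩ := toOS_preserves f
  haveI : PreservesLimitsOfShape WalkingParallelPair (AMod.dirImg f ⋙ AMod.toOS (RelSpec.QCAlg.directImage f)) := by
    rw [AMod.toOS_dirImg]
    exact (Scheme.Modules.pullbackPushforwardAdjunction f).rightAdjoint_preservesLimits.preservesLimitsOfShape
  haveI : ReflectsLimitsOfShape WalkingParallelPair (AMod.toOS (RelSpec.QCAlg.directImage f)) :=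
    reflectsLimitsOfShape_of_reflectsIsomorphisms
  exact preservesLimitsOfShape_of_reflects_of_preserves (AMod.dirImg f) (AMod.toOS (RelSpec.QCAlg.directImage f))

instance preservesZero : (AMod.dirImg f).PreservesZeroMorphisms := ⟨fun _ _ => rfl⟩

theorem epi_counit (M : AMod (RelSpec.QCAlg.directImage f)) (θ : (AMod.dirImg f).obj (KFlatLib.pb f (under f M)) ⟶ M)
    (h : ∀ (U : S.Opens), IsAffineOpen U → ∀ m : Γ(under f M, U), θ.val.app (op U) (KFlatLib.puSec f m) = m) :
    Epi θ := by
  let η : under f M ⟶ (Scheme.Modules.pushforward f).obj (KFlatLib.pb f (under f M)) :=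
    (Scheme.Modules.pullbackPushforwardAdjunction f).unit.app (under f M)
  let θ' : (Scheme.Modules.pushforward f).obj (KFlatLib.pb f (under f M)) ⟶ under f M :=
    (AMod.toOS (RelSpec.QCAlg.directImage f)).map θ
  have hsplit : η ≫ θ' = 𝟙 _ := by
    refine Scheme.Modules.hom_ext _ _ fun W => ?_
    ext m
    refine TopCat.Sheaf.eq_of_locally_eq' (⟨(under f M).presheaf, (under f M).isSheaf⟩ : TopCat.Sheaf Ab S.carrier)
      (fun U : {U : S.affineOpens // U.1 ≤ W} => U.1.1) W (fun U => homOfLE U.2) ?_ _ _ fun U => ?_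
    · intro p hp
      obtain ⟨U, hU, hpU, hle⟩ := exists_isAffineOpen_mem_and_subset (x := p) (U := W) hp
      exact Opens.mem_iSup.2 ⟨⟨⟨U, hU⟩, fun y hy => hle hy⟩, hpU⟩
    · refine ((QCohLib.app_map (η ≫ θ') (homOfLE U.2) m).symm.trans (h U.1.1 U.1.2 _)).trans ?_
      rfl
  haveI : IsSplitEpi θ' := IsSplitEpi.mk' ⟨η, hsplit⟩
  exact (AMod.toOS (RelSpec.QCAlg.directImage f)).epi_of_epi_map (show Epi θ' from inferInstance)

theorem exists_dirImg (M : AMod (RelSpec.QCAlg.directImage f)) (hM : Coh.IsQCoh (under f M)) :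
    ∃ F : X.Modules, Coh.IsQCoh F ∧ Nonempty ((AMod.dirImg f).obj F ≅ M) := by
  haveI := hM
  obtain ⟨θ, hθ⟩ := exists_counit f M
  haveI := epi_counit f M θ hθ
  let P := KFlatLib.pb f (under f M)
  have hP : Coh.IsQCoh P := KFlatLib.isQCoh_pullback f _
  haveI : Coh.IsQCoh ((Scheme.Modules.pushforward f).obj P) :=
    haveI := hP; QCohLib.isQCoh_pushforward f P
  let K := kernel θ
  haveI : Coh.IsQCoh (under f K) := by
    obtain ⟨h1, -, -⟩ := toOS_preserves f
    haveI := h1
    haveI := PreservesLimitsOfSize.preservesFiniteLimits (AMod.toOS (RelSpec.QCAlg.directImage f))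
    refine @QCohLib.isQCoh_of_iso _ _ _ (PreservesKernel.iso (AMod.toOS (RelSpec.QCAlg.directImage f)) θ).symm ?_
    exact @QCohLib.isQCoh_kernel _ _ _ _ (show Coh.IsQCoh ((Scheme.Modules.pushforward f).obj P) from inferInstance) hM
  obtain ⟨θK, hθK⟩ := exists_counit f K
  haveI := epi_counit f K θK hθK
  have hQ : Coh.IsQCoh (KFlatLib.pb f (under f K)) := KFlatLib.isQCoh_pullback f _
  obtain ⟨a, ha⟩ := (Groth.Agent.S8302.result f (KFlatLib.pb f (under f K)) P hQ hP).2 (θK ≫ kernel.ι θ)
  haveI := hP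
  haveI := hQ
  have hF : Coh.IsQCoh (cokernel a) := QCohLib.isQCoh_cokernel a
  let π := cokernel.π a
  haveI := hF
  have hker : Coh.IsQCoh (kernel π) := QCohLib.isQCoh_kernel π
  let a' := kernel.lift π a (cokernel.condition a)
  haveI : Epi a' := (ShortComplex.exact_cokernel a).epi_kernelLift
  haveI : Epi ((AMod.dirImg f).map a') := MiscFlat6.epi_dirImg_map f _ _ hQ hker a'
  haveI : Epi ((AMod.dirImg f).map π) := MiscFlat6.epi_dirImg_map f _ _ hP hF π
  haveI := preservesKernels f
  have h0 : kernel.ι θ ≫ (AMod.dirImg f).map π = 0 := by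
    rw [← cancel_epi θK, comp_zero, ← Category.assoc, ← ha, ← Functor.map_comp, cokernel.condition,
      Functor.map_zero]
  have h1 : kernel.ι ((AMod.dirImg f).map π) ≫ θ = 0 := by
    rw [← cancel_epi (PreservesKernel.iso (AMod.dirImg f) π).hom, comp_zero, ← Category.assoc,
      PreservesKernel.iso_hom, kernelComparison_comp_ι, ← cancel_epi ((AMod.dirImg f).map a'), comp_zero,
      ← Category.assoc, ← Functor.map_comp, kernel.lift_ι, ha, Category.assoc, kernel.condition, comp_zero]
  let φ : M ⟶ (AMod.dirImg f).obj (cokernel a) :=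
    (Abelian.epiIsCokernelOfKernel _ (kernelIsKernel θ)).desc (CokernelCofork.ofπ ((AMod.dirImg f).map π) h0)
  let ψ : (AMod.dirImg f).obj (cokernel a) ⟶ M :=
    (Abelian.epiIsCokernelOfKernel _ (kernelIsKernel ((AMod.dirImg f).map π))).desc (CokernelCofork.ofπ θ h1)
  have hφ : θ ≫ φ = (AMod.dirImg f).map π :=
    (Abelian.epiIsCokernelOfKernel _ (kernelIsKernel θ)).fac _ WalkingParallelPair.one
  have hψ : (AMod.dirImg f).map π ≫ ψ = θ :=
    (Abelian.epiIsCokernelOfKernel _ (kernelIsKernel ((AMod.dirImg f).map π))).fac _ WalkingParallelPair.one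
  refine ⟨cokernel a, hF, ⟨⟨ψ, φ, ?_, ?_⟩⟩⟩
  · rw [← cancel_epi ((AMod.dirImg f).map π), ← Category.assoc, hψ, hφ, Category.comp_id]
  · rw [← cancel_epi θ, ← Category.assoc, hφ, hψ, Category.comp_id]

end AModExistLib

end
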